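import Groth.Agent.CohFinite.Proper
import Mathlib.AlgebraicGeometry.Normalization

/-!
# Functions on a proper scheme and the Stein factorization
-/

noncomputable section

universe u

open CategoryTheory Limits AlgebraicGeometry Opposite TopologicalSpace

namespace Groth.Agent.SteinLead

/-- Global functions of a scheme proper over a noetherian affine scheme form a finite algebra. -/
theorem finite_appTop_of_isProper {A : Type u} [CommRing A] [IsNoetherianRing A] {X : Scheme.{u}}
    (p : X ⟶ Spec (CommRingCat.of A)) [IsProper p] :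
    ((Scheme.ΓSpecIso (CommRingCat.of A)).inv ≫ p.appTop).hom.Finite := by
  letI : X.Over (Spec (CommRingCat.of A)) := ⟨p⟩
  haveI : IsProper (X ↘ Spec (CommRingCat.of A)) := ‹IsProper p›
  let O := Coh.structureModule X
  haveI := CohFinite.finite_HH_proper (A := A) O (Devissage.isCoh_structureModule X) 0
  letI : Algebra A Γ(X, ⊤) := ((Scheme.ΓSpecIso (CommRingCat.of A)).inv ≫ p.appTop).hom.toAlgebra
  let e : Coh.HH X O 0 ≃+ Γ(X, ⊤) := CategoryTheory.Sheaf.H.equiv₀ (Coh.toAb O) isTerminalTop
  let l : Coh.HH X O 0 →ₗ[A] Γ(X, ⊤) :=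
    { toFun := e
      map_add' := e.map_add
      map_smul' := fun a x => by
        refine (CategoryTheory.Sheaf.H.equiv₀_naturality isTerminalTop
          (Coh.smulAb O (Coh.toGlobal (X ↘ Spec (CommRingCat.of A)) a)) x).symm.trans ?_
        have e1 : ∀ t : Γ(X, ⊤),
            (X.presheaf.map (homOfLE (le_top : (⊤ : X.Opens) ≤ ⊤)).op).hom t = t := fun t => by
          rw [show (homOfLE (le_top : (⊤ : X.Opens) ≤ ⊤)).op = 𝟙 _ from rfl, X.presheaf.map_id]
          rfl
        exact congrArg (fun r : Γ(X, ⊤) => r * e x) (e1 _) }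
  exact RingHom.finite_algebraMap.mpr (Module.Finite.of_surjective l e.surjective)

/-- The Stein factorization of a proper morphism to a locally noetherian scheme is finite. -/
theorem isFinite_fromNormalization {X S : Scheme.{u}} (f : X ⟶ S) [IsProper f]
    [IsLocallyNoetherian S] : IsFinite f.fromNormalization := by
  refine { finite_app := fun U hU => ?_ }
  letI := (f.app U).hom.toAlgebra
  haveI : IsNoetherianRing Γ(S, U) := IsLocallyNoetherian.component_noetherian ⟨U, hU⟩
  haveI : IsNoetherianRing (CommRingCat.of Γ(S, U)) := IsLocallyNoetherian.component_noetherian ⟨U, hU⟩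
  haveI : Module.Finite Γ(S, U) Γ(X, f ⁻¹ᵁ U) := by
    haveI : IsProper (f ∣_ U ≫ hU.isoSpec.hom) := inferInstance
    have h := finite_appTop_of_isProper (A := Γ(S, U)) (f ∣_ U ≫ hU.isoSpec.hom)
    have heq : (Scheme.ΓSpecIso (CommRingCat.of Γ(S, U))).inv ≫ (f ∣_ U ≫ hU.isoSpec.hom).appTop ≫
        (f ⁻¹ᵁ U).topIso.hom = f.app U := by
      rw [Scheme.Hom.comp_appTop, IsAffineOpen.isoSpec_hom_appTop]
      simp [morphismRestrict_appTop, Scheme.Opens.topIso, Scheme.Hom.naturality_assoc, ← Functor.map_comp, ← Functor.map_comp_assoc]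
      erw [Iso.inv_hom_id_assoc]
      erw [Scheme.Hom.appLE_map, Scheme.Hom.map_appLE, ← Scheme.Hom.app_eq_appLE]
    have h2 : (f.app U).hom.Finite := by
      rw [← heq, ← Category.assoc]
      exact RingHom.Finite.comp (RingHom.Finite.of_surjective _
        ((ConcreteCategory.bijective_of_isIso (f ⁻¹ᵁ U).topIso.hom).surjective)) h
    exact h2
  haveI : Module.Finite Γ(S, U) (integralClosure Γ(S, U) Γ(X, f ⁻¹ᵁ U)) :=
    Module.Finite.of_injective (integralClosure Γ(S, U) Γ(X, f ⁻¹ᵁ U)).val.toLinearMap
      Subtype.val_injective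
  rw [f.fromNormalization_app hU]
  exact RingHom.Finite.comp (RingHom.Finite.of_surjective _
    ((ConcreteCategory.bijective_of_isIso (f.normalizationObjIso hU).inv).surjective))
    (RingHom.finite_algebraMap.mpr inferInstance)

end Groth.Agent.SteinLead
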